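import Cfsg.Agent.SuzukiDegrees.Torus
import Cfsg.Agent.SuzukiLocal.Solubilizer
import Cfsg.Agent.Blocks.Height
import Cfsg.Agent.S0157
import Cfsg.Prelude.Def_DegreeGraph

/-!
# The degrees of the irreducible characters of a Suzuki group

The coefficient vectors of the three tori give `q/2 - 1` characters of degree `q² + 1`, two of
degree `2^m (q - 1)` and the exceptional ones; the sum of the squares of the degrees leaves no
room for others.
-/

set_option autoImplicit false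
set_option linter.unusedSectionVars false
set_option linter.style.haveILetI false

namespace CfsgLib.SuzukiDegrees

open Cfsg CfsgLib.Characters CfsgLib.Suzuki CfsgLib.SuzukiLocal

variable {F : Type*} [Field F] [Fintype F] {m : ℕ}

noncomputable local instance fintypeSz : Fintype (Cfsg.Sz F m) := Fintype.ofFinite _

theorem single_support {κ : Type*} [Fintype κ] [DecidableEq κ] {v : κ → ℤ} (h : vip v v = 1) :
    ∃ p, v p * v p = 1 ∧ ∀ j, j ≠ p → v j = 0 := by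
  obtain ⟨p, hp⟩ : ∃ p, v p ≠ 0 := by
    by_contra hno
    push Not at hno
    simp [vip, hno] at h
  have hs := Finset.add_sum_erase Finset.univ (fun j => v j * v j) (Finset.mem_univ p)
  rw [show ∑ j, v j * v j = 1 from h] at hs
  have h1 : 0 < v p * v p := mul_self_pos.2 hp
  have h2 : 0 ≤ ∑ j ∈ Finset.univ.erase p, v j * v j := Finset.sum_nonneg fun j _ => mul_self_nonneg _
  refine ⟨p, by linarith, fun j hj => ?_⟩
  have h3 := (Finset.sum_eq_zero_iff_of_nonneg fun j _ => mul_self_nonneg (v j)).1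
    (by linarith : ∑ j ∈ Finset.univ.erase p, v j * v j = 0) j
    (Finset.mem_erase.2 ⟨hj, Finset.mem_univ j⟩)
  exact mul_self_eq_zero.1 h3

theorem vip_single {κ : Type*} [Fintype κ] [DecidableEq κ] {v : κ → ℤ} {p : κ}
    (hp : ∀ j, j ≠ p → v j = 0) (u : κ → ℤ) : vip v u = v p * u p :=
  Finset.sum_eq_single p (fun j _ hj => by rw [hp j hj, zero_mul])
    fun h => absurd (Finset.mem_univ p) h

/-- The Steinberg character, from the action on the ovoid. -/
theorem exists_steinberg (hS : SzField F m) {A : Fin 3 → Subgroup (Cfsg.Sz F m)} (hA : Tori hS A) :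
    ∃ St : IrrCharacter (Cfsg.Sz F m),
      (St : Cfsg.Sz F m → ℂ) 1 = (Fintype.card F : ℂ) ^ 2 ∧
      (∀ a ∈ A 0, a ≠ 1 → (St : Cfsg.Sz F m → ℂ) a = ((1 : ℤ) : ℂ)) ∧
      ∀ i, i ≠ 0 → ∀ a ∈ A i, a ≠ 1 → (St : Cfsg.Sz F m → ℂ) a = ((-1 : ℤ) : ℂ) := by
  haveI := sz_pretransitive hS
  haveI : Finite (Cfsg.suzukiOvoid F m) :=
    Nat.finite_of_card_ne_zero (by have := three_le_card_ovoid hS; omega)
  refine ⟨⟨_, (Cfsg.Agent.S0157.result (Cfsg.suzukiOvoid F m)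
    (by have := three_le_card_ovoid hS; omega)).2 (sz_two_pretransitive hS)⟩, ?_, ?_, ?_⟩
  · show (Nat.card (MulAction.fixedBy (Cfsg.suzukiOvoid F m) (1 : Cfsg.Sz F m)) : ℂ) - 1 = _
    have h : Nat.card (MulAction.fixedBy (Cfsg.suzukiOvoid F m) (1 : Cfsg.Sz F m)) =
        Nat.card (Cfsg.suzukiOvoid F m) :=
      Nat.card_congr (Equiv.subtypeUnivEquiv fun y => one_smul (Cfsg.Sz F m) y)
    rw [h, card_suzukiOvoid]
    push_cast
    ring
  · intro a ha h1
    rw [hA.split] at ha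
    obtain ⟨μ, rfl⟩ := ha
    have hμ : μ ≠ 1 := fun e => h1 (by rw [e, map_one])
    have hset : MulAction.fixedBy (Cfsg.suzukiOvoid F m) (torSz hS μ) =
        {ovoidInf, ovoidZero} := by
      ext p
      exact ⟨fun h => fixed_torSz hS hμ h, fun h => by
        rcases h with rfl | rfl
        exacts [(torSz_smul_base hS μ).1, (torSz_smul_base hS μ).2]⟩
    show (Nat.card (MulAction.fixedBy (Cfsg.suzukiOvoid F m) (torSz hS μ)) : ℂ) - 1 = _
    rw [hset, Nat.card_coe_set_eq, Set.ncard_pair ovoidInf_ne_zero]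
    norm_num
  · intro i hi a ha h1
    have : IsEmpty (MulAction.fixedBy (Cfsg.suzukiOvoid F m) a) :=
      ⟨fun p => hA.not_fixed_of_ne_zero hi h1 (g := 1) (by simpa using ha) p.1 p.2⟩
    show (Nat.card (MulAction.fixedBy (Cfsg.suzukiOvoid F m) a) : ℂ) - 1 = _
    rw [Nat.card_of_isEmpty]
    norm_num

theorem no_third {q d : ℕ} (hq : 8 ≤ q) (hd : d ∣ q ^ 2 * (q ^ 2 + 1) * (q - 1)) :
    3 * d + 1 ≠ q ^ 2 := by
  intro h
  obtain ⟨k, hk⟩ := hd
  have hkz : ((q : ℤ) ^ 2 * ((q : ℤ) ^ 2 + 1) * ((q : ℤ) - 1)) = d * k := by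
    have := congrArg (Nat.cast (R := ℤ)) hk
    push_cast [Nat.cast_sub (show 1 ≤ q by omega)] at this
    exact this
  have hz : (3 * (d : ℤ) + 1) = (q : ℤ) ^ 2 := by exact_mod_cast h
  have h6 : ((q : ℤ) + 1) ∣ 6 := by
    refine ⟨(k : ℤ) - 3 * ((q : ℤ) - 1) * ((q : ℤ) ^ 2 + 2), mul_left_cancel₀
      (show ((q : ℤ) - 1) ≠ 0 by omega) ?_⟩
    linear_combination 3 * hkz + (k : ℤ) * hz
  have := Int.le_of_dvd (by norm_num) h6
  omega

set_option maxHeartbeats 1600000 in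
/-- The degrees of the irreducible characters. -/
theorem charDegrees_eq (hS : SzField F m) :
    Cfsg.charDegrees (Cfsg.Sz F m) =
      {1, Fintype.card F ^ 2, Fintype.card F ^ 2 + 1, 2 ^ m * (Fintype.card F - 1),
        (Fintype.card F - 1) * (Fintype.card F - 2 ^ (m + 1) + 1),
        (Fintype.card F - 1) * (Fintype.card F + 2 ^ (m + 1) + 1)} := by
  classical
  obtain ⟨q, r, hq, hr, hqF, h8, hrr, hrq, h4, hr2, hq2⟩ := Cfsg.Agent.S2238.sizes hS
  obtain ⟨A, hA⟩ := exists_tori (F := F) hS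
  obtain ⟨St, hSt1, hSt0, hSti⟩ := exists_steinberg hS hA
  set T : IrrCharacter (Cfsg.Sz F m) := ⟨fun _ => 1, isIrr_one⟩
  rw [hqF, ← hr]
  rw [hqF] at hSt1
  have hTS : T ≠ St := fun e => by
    have h := congrArg (fun χ : IrrCharacter (Cfsg.Sz F m) => (χ : Cfsg.Sz F m → ℂ) 1) e
    simp only [T, hSt1] at h
    have h' : (1 : ℕ) = q ^ 2 := by exact_mod_cast h
    nlinarith
  obtain ⟨ι₀, _, f₀, hf₀, hf₀ne, hcard₀⟩ := exists_reps (hA.good 0)
  obtain ⟨ι₁, _, f₁, hf₁, hf₁ne, hcard₁⟩ := exists_reps (hA.good 1)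
  obtain ⟨ι₂, _, f₂, hf₂, hf₂ne, hcard₂⟩ := exists_reps (hA.good 2)
  simp only [hA.card, kT, eT, Matrix.cons_val_zero, Matrix.cons_val_one, Matrix.cons_val, hqF, ← hr]
    at hcard₀ hcard₁ hcard₂
  set v₀ := fun i => vec (A 0) T St (f₀ i)
  set v₁ := fun i => vec (A 1) T St (f₁ i)
  set v₂ := fun i => vec (A 2) T St (f₂ i)
  have hs1 := hSti 1 (by decide)
  have hs2 := hSti 2 (by decide)
  have hcross : ∀ i j : Fin 3, i ≠ j → ∀ (f : A i →* ℂˣ) (g : A j →* ℂˣ),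
      classInner (beta (A i) f) (beta (A j) g) = ((0 : ℤ) : ℂ) := by
    intro i j hij f g
    rw [Int.cast_zero]
    exact classInner_beta_cross f g fun a ha h1 x hx =>
      hij (hA.index_eq h1 (g := 1) (by simpa using ha) hx)
  have n0 : ∀ i, vip (v₀ i) (v₀ i) = 1 := fun i => by
    rw [vip_vec hTS rfl (hf₀ i) (hf₀ i) hSt0 hSt0 (k := 3) (by
      rw [classInner_beta_self (hA.good 0) (hf₀ i)]; norm_num [show eT 0 = 2 from rfl, show eT 1 = 4 from rfl, show eT 2 = 4 from rfl])]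
    norm_num
  have n00 : ∀ i j, i ≠ j → vip (v₀ i) (v₀ j) = 0 := fun i j h => by
    rw [vip_vec hTS rfl (hf₀ i) (hf₀ j) hSt0 hSt0 (k := 2) (by
      rw [classInner_beta_ne (hA.good 0) (hf₀ i) (hf₀ j) (hf₀ne i j h)]; norm_num [show eT 0 = 2 from rfl, show eT 1 = 4 from rfl, show eT 2 = 4 from rfl])]
    norm_num
  have n1 : ∀ i, vip (v₁ i) (v₁ i) = 3 := fun i => by
    rw [vip_vec hTS rfl (hf₁ i) (hf₁ i) hs1 hs1 (k := 5) (by
      rw [classInner_beta_self (hA.good 1) (hf₁ i)]; norm_num [show eT 0 = 2 from rfl, show eT 1 = 4 from rfl, show eT 2 = 4 from rfl])]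
    norm_num
  have n11 : ∀ i j, i ≠ j → vip (v₁ i) (v₁ j) = 2 := fun i j h => by
    rw [vip_vec hTS rfl (hf₁ i) (hf₁ j) hs1 hs1 (k := 4) (by
      rw [classInner_beta_ne (hA.good 1) (hf₁ i) (hf₁ j) (hf₁ne i j h)]; norm_num [show eT 0 = 2 from rfl, show eT 1 = 4 from rfl, show eT 2 = 4 from rfl])]
    norm_num
  have n2 : ∀ i, vip (v₂ i) (v₂ i) = 3 := fun i => by
    rw [vip_vec hTS rfl (hf₂ i) (hf₂ i) hs2 hs2 (k := 5) (by
      rw [classInner_beta_self (hA.good 2) (hf₂ i)]; norm_num [show eT 0 = 2 from rfl, show eT 1 = 4 from rfl, show eT 2 = 4 from rfl])]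
    norm_num
  have n22 : ∀ i j, i ≠ j → vip (v₂ i) (v₂ j) = 2 := fun i j h => by
    rw [vip_vec hTS rfl (hf₂ i) (hf₂ j) hs2 hs2 (k := 4) (by
      rw [classInner_beta_ne (hA.good 2) (hf₂ i) (hf₂ j) (hf₂ne i j h)]; norm_num [show eT 0 = 2 from rfl, show eT 1 = 4 from rfl, show eT 2 = 4 from rfl])]
    norm_num
  have n01 : ∀ i j, vip (v₀ i) (v₁ j) = 0 := fun i j => by
    rw [vip_vec hTS rfl (hf₀ i) (hf₁ j) hSt0 hs1 (hcross 0 1 (by decide) _ _)]
    norm_num
  have n02 : ∀ i j, vip (v₀ i) (v₂ j) = 0 := fun i j => by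
    rw [vip_vec hTS rfl (hf₀ i) (hf₂ j) hSt0 hs2 (hcross 0 2 (by decide) _ _)]
    norm_num
  have n12 : ∀ i j, vip (v₁ i) (v₂ j) = -2 := fun i j => by
    rw [vip_vec hTS rfl (hf₁ i) (hf₂ j) hs1 hs2 (hcross 1 2 (by decide) _ _)]
    norm_num
  -- degrees
  set d : IrrCharacter (Cfsg.Sz F m) → ℝ :=
    fun χ => ((Cfsg.charDegree (χ : Cfsg.Sz F m → ℂ) : ℕ) : ℝ) with hd
  have hdpos : ∀ χ, 0 < d χ := fun χ => Nat.cast_pos.2 (Nat.pos_of_ne_zero (Blocks.charDegree_ne_zero χ))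
  have hdT : d T = 1 := by
    have h : ((Cfsg.charDegree (T : Cfsg.Sz F m → ℂ) : ℕ) : ℂ) = ((1 : ℕ) : ℂ) := by
      rw [Blocks.charDegree_cast, Nat.cast_one]
    simp [hd, Nat.cast_injective h]
  have hdS : d St = (q : ℝ) ^ 2 := by
    have h : ((Cfsg.charDegree (St : Cfsg.Sz F m → ℂ) : ℕ) : ℂ) = ((q ^ 2 : ℕ) : ℂ) := by
      rw [Blocks.charDegree_cast, hSt1, Nat.cast_pow]
    simp [hd, Nat.cast_injective h]
  have hweight : ∀ (i : Fin 3) (f : A i →* ℂˣ) (c : ℤ), f ≠ 1 →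
      (∀ a ∈ A i, a ≠ 1 → (St : Cfsg.Sz F m → ℂ) a = c) →
      ∑ χ, (vec (A i) T St f χ : ℝ) * d χ = -1 - (c : ℝ) * (q : ℝ) ^ 2 := by
    intro i f c hf hc
    have h := sum_vec_degree (A := A i) hTS rfl hf hc
    simp only [hSt1, ← Blocks.charDegree_cast] at h
    have h' : ∑ χ : IrrCharacter (Cfsg.Sz F m), vec (A i) T St f χ *
        (Cfsg.charDegree (χ : Cfsg.Sz F m → ℂ) : ℤ) = -1 - c * (q : ℤ) ^ 2 := by exact_mod_cast h
    have h'' := congrArg (Int.cast (R := ℝ)) h'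
    push_cast at h''
    exact h''
  -- the split torus
  choose p hp1 hp0 using fun i => single_support (n0 i)
  have hpd : ∀ i, d (p i) = (q : ℝ) ^ 2 + 1 := by
    intro i
    have h := hweight 0 (f₀ i) 1 (hf₀ i) hSt0
    rw [Finset.sum_eq_single (p i) (fun j _ hj => by rw [show vec (A 0) T St (f₀ i) j = 0 from
      hp0 i j hj, Int.cast_zero, zero_mul]) (fun h => absurd (Finset.mem_univ _) h)] at h
    push_cast at h
    rcases sq_eq_one_iff.1 (show v₀ i (p i) ^ 2 = 1 by linear_combination hp1 i) with e | e <;>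
      rw [show vec (A 0) T St (f₀ i) (p i) = _ from e] at h <;> push_cast at h
    · nlinarith [hdpos (p i)]
    · linarith
  have hp_inj : Function.Injective p := by
    intro i j hij
    by_contra hne
    have h := n00 i j hne
    rw [vip_single (hp0 i)] at h
    have : v₀ i (p i) = 0 ∨ v₀ j (p i) = 0 := mul_eq_zero.1 h
    rcases this with e | e
    · simpa [e] using hp1 i
    · rw [hij] at e; simpa [e] using hp1 j
  have hvp : ∀ (u : IrrCharacter (Cfsg.Sz F m) → ℤ) i, vip (v₀ i) u = 0 → u (p i) = 0 := by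
    intro u i h
    rw [vip_single (hp0 i)] at h
    linear_combination v₀ i (p i) * h - u (p i) * hp1 i
  -- the anisotropic tori
  have he1 : 4 * Fintype.card ι₁ = q + r := by omega
  have he2 : 4 * Fintype.card ι₂ = q - r := by omega
  obtain ⟨i₀, i₁, i₂, h01, h02, h12⟩ :=
    Fintype.two_lt_card_iff.1 (show 2 < Fintype.card ι₁ by omega)
  obtain ⟨j₀⟩ : Nonempty ι₂ := Fintype.card_pos_iff.1 (by omega)
  set K : ℝ := (q : ℝ) ^ 2 - 1 with hK
  have hK1 : ∀ i, ∑ χ, (v₁ i χ : ℝ) * d χ = K := fun i => by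
    rw [hweight 1 (f₁ i) (-1) (hf₁ i) hs1, hK]; push_cast; ring
  have hK2 : ∀ i, ∑ χ, (v₂ i χ : ℝ) * d χ = K := fun i => by
    rw [hweight 2 (f₂ i) (-1) (hf₂ i) hs2, hK]; push_cast; ring
  have hqR : (8 : ℝ) ≤ q := by exact_mod_cast h8
  obtain ⟨a, b, σa, σb, c, hsf⟩ := sunflower n1 n11 h01 (n2 j₀) (fun i => n12 i j₀) hK1 (hK2 j₀) (by
    intro χ
    constructor
    · intro h
      have h' : (((3 * Cfsg.charDegree (χ : Cfsg.Sz F m → ℂ) + 1 : ℕ)) : ℝ) = ((q ^ 2 : ℕ) : ℝ) := by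
        push_cast
        linarith
      refine no_third h8 ?_ (Nat.cast_injective h')
      rw [← hqF, ← card_sz hS]
      exact Blocks.charDegree_dvd_card χ
    · nlinarith [hdpos χ])
  have hopp : ∀ j, v₂ j a = -σa ∧ v₂ j b = -σb ∧ ∀ i, v₂ j (c i) = 0 := fun j =>
    hsf.opposite n1 (n2 j) (fun i => n12 i j) h01 h02 h12
  have hσ0 : σa ≠ 0 ∧ σb ≠ 0 := ⟨fun e => by simpa [e] using hsf.sq_a, fun e => by simpa [e] using hsf.sq_b⟩
  have hthird : ∀ j, ∃ e, e ≠ a ∧ e ≠ b ∧ supp (v₂ j) = {a, b, e} := by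
    intro j
    have hsub : ({a, b} : Finset _) ⊆ supp (v₂ j) := by
      intro x hx
      simp only [Finset.mem_insert, Finset.mem_singleton] at hx
      rw [mem_supp]
      rcases hx with rfl | rfl
      · rw [(hopp j).1]; exact neg_ne_zero.2 hσ0.1
      · rw [(hopp j).2.1]; exact neg_ne_zero.2 hσ0.2
    obtain ⟨e, he⟩ : ∃ e, supp (v₂ j) \ {a, b} = {e} := Finset.card_eq_one.1 (by
      rw [Finset.card_sdiff_of_subset hsub, card_supp (n2 j), Finset.card_pair hsf.ne])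
    have hem := Finset.mem_sdiff.1 (he ▸ Finset.mem_singleton_self e)
    refine ⟨e, fun h => hem.2 (by simp [h]), fun h => hem.2 (by simp [h]), ?_⟩
    rw [← Finset.union_sdiff_of_subset hsub, he]
    ext x; simp
  choose c' hca hcb hsupp using hthird
  have hsf' : Sunflower v₂ a b (-σa) (-σb) c' := by
    refine ⟨hsf.ne, by rw [neg_mul_neg]; exact hsf.sq_a, by rw [neg_mul_neg]; exact hsf.sq_b,
      fun j => (hopp j).1, fun j => (hopp j).2.1, hsupp, hca, hcb, fun j k h => ?_⟩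
    by_contra hne
    have h2 := (share (n2 j) (n2 k) (n22 j k hne)).1
    rw [hsupp j, hsupp k, h, Finset.inter_self, Finset.card_insert_of_notMem (by
      simp [hsf.ne, (hca k).symm]), Finset.card_pair (hcb k).symm] at h2
    omega
  set S : ℝ := (σa : ℝ) * d a + σb * d b with hS'
  have sqc : ∀ i, d (c i) ^ 2 = (K - S) ^ 2 := fun i => by
    have h := hK1 i
    rw [hsf.sum_weight] at h
    have h1 : ((v₁ i (c i) : ℝ)) ^ 2 = 1 := by
      rw [sq]; exact_mod_cast hsf.sq_c n1 i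
    rw [show K - S = (v₁ i (c i) : ℝ) * d (c i) by rw [hS']; linarith, mul_pow, h1, one_mul]
  have sqc' : ∀ j, d (c' j) ^ 2 = (K + S) ^ 2 := fun j => by
    have h := hK2 j
    rw [hsf'.sum_weight] at h
    push_cast at h
    have h1 : ((v₂ j (c' j) : ℝ)) ^ 2 = 1 := by
      rw [sq]; exact_mod_cast hsf'.sq_c n2 j
    rw [show K + S = (v₂ j (c' j) : ℝ) * d (c' j) by rw [hS']; linarith, mul_pow, h1, one_mul]
  -- disjointness
  have hvecT : ∀ (i : Fin 3) (f : A i →* ℂˣ) χ, vec (A i) T St f χ ≠ 0 → χ ≠ T ∧ χ ≠ St := by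
    intro i f χ h
    refine ⟨fun e => h ?_, fun e => h ?_⟩ <;> simp [vec, e]
  have hp_ne : ∀ i, p i ≠ T ∧ p i ≠ St := fun i => hvecT 0 (f₀ i) _ fun e => by
    simpa [show v₀ i (p i) = 0 from e] using hp1 i
  have hc_ne : ∀ i, v₁ i (c i) ≠ 0 := fun i e => by simpa [e] using hsf.sq_c n1 i
  have hc'_ne : ∀ j, v₂ j (c' j) ≠ 0 := fun j e => by simpa [e] using hsf'.sq_c n2 j
  have hab_ne : (a ≠ T ∧ a ≠ St) ∧ (b ≠ T ∧ b ≠ St) :=
    ⟨hvecT 1 (f₁ i₀) a fun e => hσ0.1 ((hsf.val_a i₀).symm.trans e),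
      hvecT 1 (f₁ i₀) b fun e => hσ0.2 ((hsf.val_b i₀).symm.trans e)⟩
  set base : Finset (IrrCharacter (Cfsg.Sz F m)) := {T, St, a, b}
  set P := Finset.univ.image p
  set C := Finset.univ.image c
  set C' := Finset.univ.image c'
  have d1 : Disjoint base P := by
    rw [Finset.disjoint_right]
    intro x hx hx'
    obtain ⟨k, -, rfl⟩ := Finset.mem_image.1 hx
    simp only [base, Finset.mem_insert, Finset.mem_singleton] at hx'
    rcases hx' with e | e | e | e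
    · exact (hp_ne k).1 e
    · exact (hp_ne k).2 e
    · exact hσ0.1 (by rw [← hsf.val_a i₀, ← e]; exact hvp _ k (n01 k i₀))
    · exact hσ0.2 (by rw [← hsf.val_b i₀, ← e]; exact hvp _ k (n01 k i₀))
  have d2 : Disjoint (base ∪ P) C := by
    rw [Finset.disjoint_right]
    intro x hx hx'
    obtain ⟨k, -, rfl⟩ := Finset.mem_image.1 hx
    simp only [base, P, Finset.mem_union, Finset.mem_insert, Finset.mem_singleton, Finset.mem_image,
      Finset.mem_univ, true_and] at hx'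
    rcases hx' with (e | e | e | e) | ⟨l, e⟩
    · exact (hvecT 1 (f₁ k) _ (hc_ne k)).1 e
    · exact (hvecT 1 (f₁ k) _ (hc_ne k)).2 e
    · exact hsf.ne_a k e
    · exact hsf.ne_b k e
    · exact hc_ne k (by rw [← e]; exact hvp _ l (n01 l k))
  have d3 : Disjoint (base ∪ P ∪ C) C' := by
    rw [Finset.disjoint_right]
    intro x hx hx'
    obtain ⟨k, -, rfl⟩ := Finset.mem_image.1 hx
    simp only [base, P, C, Finset.mem_union, Finset.mem_insert, Finset.mem_singleton,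
      Finset.mem_image, Finset.mem_univ, true_and] at hx'
    rcases hx' with ((e | e | e | e) | ⟨l, e⟩) | ⟨l, e⟩
    · exact (hvecT 2 (f₂ k) _ (hc'_ne k)).1 e
    · exact (hvecT 2 (f₂ k) _ (hc'_ne k)).2 e
    · exact hca k e
    · exact hcb k e
    · exact hc'_ne k (by rw [← e]; exact hvp _ l (n02 l k))
    · exact hc'_ne k (by rw [← e]; exact (hopp k).2.2 l)
  -- the sum of squares
  have htot : ∑ χ, d χ ^ 2 = (q : ℝ) ^ 2 * ((q : ℝ) ^ 2 + 1) * ((q : ℝ) - 1) := by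
    have h := sum_degree_sq (G := Cfsg.Sz F m)
    simp only [← Blocks.charDegree_cast] at h
    have h' : ∑ χ : IrrCharacter (Cfsg.Sz F m), Cfsg.charDegree (χ : Cfsg.Sz F m → ℂ) ^ 2 =
        Nat.card (Cfsg.Sz F m) := by exact_mod_cast h
    rw [card_sz hS, hqF] at h'
    have h'' := congrArg (Nat.cast (R := ℝ)) h'
    push_cast [Nat.cast_sub (show 1 ≤ q by omega)] at h''
    exact h''
  set s := base ∪ P ∪ C ∪ C'
  have hsum : ∑ χ ∈ s, d χ ^ 2 = 1 + (q : ℝ) ^ 4 + d a ^ 2 + d b ^ 2 +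
      (Fintype.card ι₀ : ℝ) * ((q : ℝ) ^ 2 + 1) ^ 2 + (Fintype.card ι₁ : ℝ) * (K - S) ^ 2 +
      (Fintype.card ι₂ : ℝ) * (K + S) ^ 2 := by
    rw [Finset.sum_union d3, Finset.sum_union d2, Finset.sum_union d1,
      Finset.sum_image hp_inj.injOn, Finset.sum_image hsf.inj.injOn, Finset.sum_image hsf'.inj.injOn,
      Finset.sum_congr rfl (fun i _ => by rw [hpd i] : ∀ i ∈ Finset.univ, d (p i) ^ 2 = _),
      Finset.sum_congr rfl (fun i _ => sqc i), Finset.sum_congr rfl (fun i _ => sqc' i),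
      Finset.sum_const, Finset.sum_const, Finset.sum_const, Finset.card_univ, Finset.card_univ,
      Finset.card_univ, nsmul_eq_mul, nsmul_eq_mul, nsmul_eq_mul,
      Finset.sum_insert (by simp [hTS, hab_ne.1.1.symm, hab_ne.2.1.symm]),
      Finset.sum_insert (by simp [hab_ne.1.2.symm, hab_ne.2.2.symm]), Finset.sum_pair hsf.ne, hdT, hdS]
    ring
  have E0 : (Fintype.card ι₀ : ℝ) = ((q : ℝ) - 2) / 2 := by
    have : ((2 * Fintype.card ι₀ + 2 : ℕ) : ℝ) = (q : ℝ) := by exact_mod_cast (by omega : 2 * Fintype.card ι₀ + 2 = q)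
    push_cast at this
    linarith
  have E1 : (Fintype.card ι₁ : ℝ) = ((q : ℝ) + r) / 4 := by
    have : ((4 * Fintype.card ι₁ : ℕ) : ℝ) = ((q + r : ℕ) : ℝ) := by exact_mod_cast he1
    push_cast at this
    linarith
  have E2 : (Fintype.card ι₂ : ℝ) = ((q : ℝ) - r) / 4 := by
    have : ((4 * Fintype.card ι₂ + r : ℕ) : ℝ) = (q : ℝ) := by exact_mod_cast (by omega : 4 * Fintype.card ι₂ + r = q)
    push_cast at this
    linarith
  have hrR : (r : ℝ) * r = 2 * q := by exact_mod_cast hrr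
  have sa : (σa : ℝ) * σa = 1 := by exact_mod_cast hsf.sq_a
  have sb : (σb : ℝ) * σb = 1 := by exact_mod_cast hsf.sq_b
  set L : ℝ := (q : ℝ) - 1 with hL
  have hid : ∑ χ ∈ s, d χ ^ 2 - ∑ χ, d χ ^ 2 =
      ((q : ℝ) + 1) / 2 * (S - r * L) ^ 2 + ((σa : ℝ) * d a - σb * d b) ^ 2 / 2 := by
    rw [hsum, htot, E0, E1, E2, hK, hS', hL]
    linear_combination (-((q : ℝ) + 1) / 2 * ((q : ℝ) - 1) ^ 2) * hrR - d a ^ 2 * sa - d b ^ 2 * sb
  have hle : ∑ χ ∈ s, d χ ^ 2 ≤ ∑ χ, d χ ^ 2 :=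
    Finset.sum_le_sum_of_subset_of_nonneg (Finset.subset_univ _) fun χ _ _ => sq_nonneg _
  have z1 : ((q : ℝ) + 1) / 2 * (S - r * L) ^ 2 = 0 ∧ ((σa : ℝ) * d a - σb * d b) ^ 2 / 2 = 0 := by
    have p1 : 0 ≤ ((q : ℝ) + 1) / 2 * (S - r * L) ^ 2 := mul_nonneg (by linarith) (sq_nonneg _)
    have p2 : 0 ≤ ((σa : ℝ) * d a - σb * d b) ^ 2 / 2 := div_nonneg (sq_nonneg _) (by norm_num)
    constructor <;> linarith
  have hSval : S = r * L := by
    rcases mul_eq_zero.1 z1.1 with e | e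
    · linarith
    · exact sub_eq_zero.1 (pow_eq_zero_iff two_ne_zero |>.1 e)
  have hΔ : (σa : ℝ) * d a = σb * d b :=
    sub_eq_zero.1 (pow_eq_zero_iff two_ne_zero |>.1 (by linarith [z1.2]))
  have hall : ∀ χ, χ ∈ s := by
    intro χ
    by_contra hχ
    have h1 := Finset.sum_le_sum_of_subset_of_nonneg (f := fun χ => d χ ^ 2)
      (Finset.subset_univ (insert χ s)) fun χ _ _ => sq_nonneg _
    rw [Finset.sum_insert hχ] at h1
    have := pow_pos (hdpos χ) 2
    nlinarith [z1.1, z1.2, hid]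
  have hrL : 0 < (r : ℝ) * L := mul_pos (by exact_mod_cast (by omega : 0 < r)) (by linarith)
  have hda : 2 * d a = r * L ∧ 2 * d b = r * L := by
    have pos : ∀ (σ : ℤ) (x : IrrCharacter (Cfsg.Sz F m)), (σ : ℝ) * σ = 1 →
        2 * ((σ : ℝ) * d x) = r * L → 2 * d x = r * L := by
      intro σ x hσ h
      rcases sq_eq_one_iff.1 (show (σ : ℝ) ^ 2 = 1 by linear_combination hσ) with e | e
      · rwa [e, one_mul] at h
      · rw [e] at h; nlinarith [hdpos x]
    exact ⟨pos σa a sa (by rw [← hSval, hS']; linarith), pos σb b sb (by rw [← hSval, hS']; linarith)⟩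
  have hr' : r = 2 * 2 ^ m := by rw [hr, pow_succ']
  have hrqR : (r : ℝ) < q := by exact_mod_cast hrq
  have dab : ∀ x : IrrCharacter (Cfsg.Sz F m), 2 * d x = r * L →
      Cfsg.charDegree (x : Cfsg.Sz F m → ℂ) = 2 ^ m * (q - 1) := by
    intro x h
    apply Nat.cast_injective (R := ℝ)
    rw [hr', hL] at h
    push_cast [Nat.cast_sub (show 1 ≤ q by omega)] at h ⊢
    simp only [hd] at h
    linarith
  have dc : ∀ i, Cfsg.charDegree (c i : Cfsg.Sz F m → ℂ) = (q - 1) * (q - r + 1) := by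
    intro i
    apply Nat.cast_injective (R := ℝ)
    push_cast [Nat.cast_sub (show 1 ≤ q by omega), Nat.cast_sub hrq.le]
    refine (pow_left_inj₀ (hdpos (c i)).le (by nlinarith) two_ne_zero).1 ?_
    rw [sqc i, hSval, hK, hL]
    ring
  have dc' : ∀ i, Cfsg.charDegree (c' i : Cfsg.Sz F m → ℂ) = (q - 1) * (q + r + 1) := by
    intro i
    apply Nat.cast_injective (R := ℝ)
    push_cast [Nat.cast_sub (show 1 ≤ q by omega)]
    refine (pow_left_inj₀ (hdpos (c' i)).le (by nlinarith) two_ne_zero).1 ?_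
    rw [sqc' i, hSval, hK, hL]
    ring
  have dT : Cfsg.charDegree (T : Cfsg.Sz F m → ℂ) = 1 := Nat.cast_injective (R := ℝ) (by simpa [hd] using hdT)
  have dS : Cfsg.charDegree (St : Cfsg.Sz F m → ℂ) = q ^ 2 :=
    Nat.cast_injective (R := ℝ) (by simpa [hd] using hdS)
  have dp : ∀ i, Cfsg.charDegree (p i : Cfsg.Sz F m → ℂ) = q ^ 2 + 1 := fun i =>
    Nat.cast_injective (R := ℝ) (by simpa [hd] using hpd i)
  obtain ⟨k₀⟩ : Nonempty ι₀ := Fintype.card_pos_iff.1 (by omega)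
  ext x
  simp only [Cfsg.charDegrees, Set.mem_ofPred_eq, Set.mem_insert_iff, Set.mem_singleton_iff]
  constructor
  · rintro ⟨χ, rfl⟩
    have := hall χ
    simp only [s, base, P, C, C', Finset.mem_union, Finset.mem_insert, Finset.mem_singleton,
      Finset.mem_image, Finset.mem_univ, true_and] at this
    rcases this with (((rfl | rfl | rfl | rfl) | ⟨i, rfl⟩) | ⟨i, rfl⟩) | ⟨i, rfl⟩
    · exact Or.inl dT
    · exact Or.inr (Or.inl dS)
    · exact Or.inr (Or.inr (Or.inr (Or.inl (dab _ hda.1))))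
    · exact Or.inr (Or.inr (Or.inr (Or.inl (dab _ hda.2))))
    · exact Or.inr (Or.inr (Or.inl (dp i)))
    · exact Or.inr (Or.inr (Or.inr (Or.inr (Or.inl (dc i)))))
    · exact Or.inr (Or.inr (Or.inr (Or.inr (Or.inr (dc' i)))))
  · rintro (rfl | rfl | rfl | rfl | rfl | rfl)
    exacts [⟨T, dT⟩, ⟨St, dS⟩, ⟨p k₀, dp k₀⟩, ⟨a, dab a hda.1⟩, ⟨c i₀, dc i₀⟩, ⟨c' j₀, dc' j₀⟩]

end CfsgLib.SuzukiDegrees
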