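import Mathlib

/-!
# Integer vectors of norm three with mutual inner products two

Such a family has two common coordinates and private third ones, unless three of them form a
triangle; a vector of norm three with all inner products `-2` is then negated on the common
coordinates.
-/

set_option autoImplicit false
set_option linter.unusedSectionVars false

namespace CfsgLib.SuzukiDegrees

variable {κ : Type*} [Fintype κ] [DecidableEq κ] {ι : Type*}

/-- The inner product of integer vectors. -/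
def vip (u v : κ → ℤ) : ℤ := ∑ j, u j * v j

/-- The support of a vector. -/
def supp (u : κ → ℤ) : Finset κ := Finset.univ.filter fun j => u j ≠ 0

theorem mem_supp {u : κ → ℤ} {j : κ} : j ∈ supp u ↔ u j ≠ 0 := by simp [supp]

theorem vip_eq_sum (u v : κ → ℤ) {s : Finset κ} (h : supp u ∩ supp v ⊆ s) :
    vip u v = ∑ j ∈ s, u j * v j := by
  refine (Finset.sum_subset (Finset.subset_univ s) fun j _ hj => ?_).symm
  by_contra hne
  exact hj (h (Finset.mem_inter.2
    ⟨mem_supp.2 (left_ne_zero_of_mul hne), mem_supp.2 (right_ne_zero_of_mul hne)⟩))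

theorem unit_cases {u : κ → ℤ} (h : vip u u = 3) (j : κ) : u j = -1 ∨ u j = 0 ∨ u j = 1 := by
  have hb : u j * u j ≤ 3 := h ▸ Finset.single_le_sum (f := fun k => u k * u k)
    (fun _ _ => mul_self_nonneg _) (Finset.mem_univ j)
  have : -1 ≤ u j ∧ u j ≤ 1 := ⟨by nlinarith, by nlinarith⟩
  omega

theorem sq_of_mem {u : κ → ℤ} (h : vip u u = 3) {j : κ} (hj : j ∈ supp u) : u j * u j = 1 := by
  rcases unit_cases h j with e | e | e
  · rw [e]; norm_num
  · exact absurd e (mem_supp.1 hj)
  · rw [e]; norm_num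

theorem card_supp {u : κ → ℤ} (h : vip u u = 3) : (supp u).card = 3 := by
  have h1 := vip_eq_sum u u (s := supp u) Finset.inter_subset_left
  rw [Finset.sum_congr rfl (fun j hj => sq_of_mem h hj), h] at h1
  simp at h1
  exact_mod_cast h1.symm

/-- Inner product two: two common coordinates, with equal values. -/
theorem share {u v : κ → ℤ} (hu : vip u u = 3) (hv : vip v v = 3) (huv : vip u v = 2) :
    (supp u ∩ supp v).card = 2 ∧ ∀ j ∈ supp u ∩ supp v, u j = v j := by
  set s := supp u ∩ supp v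
  have hle : s.card ≤ 3 := (Finset.card_le_card Finset.inter_subset_left).trans_eq (card_supp hu)
  have hsum : ∑ j ∈ s, u j * v j = 2 := (vip_eq_sum u v subset_rfl).symm.trans huv
  have hval : ∀ j ∈ s, u j * v j = 1 ∨ u j * v j = -1 := by
    intro j hj
    obtain ⟨h1, h2⟩ := Finset.mem_inter.1 hj
    have a := sq_of_mem hu h1
    have b := sq_of_mem hv h2
    exact sq_eq_one_iff.1 (by linear_combination (v j * v j) * a + b)
  set P := s.filter fun j => u j * v j = 1
  have h2 : (P.card : ℤ) - ((s.filter fun j => ¬ u j * v j = 1).card : ℤ) = 2 := by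
    rw [← hsum, ← Finset.sum_filter_add_sum_filter_not s (fun j => u j * v j = 1),
      Finset.sum_congr rfl (fun j hj => (Finset.mem_filter.1 hj).2),
      Finset.sum_congr (s₂ := s.filter fun j => ¬ u j * v j = 1) rfl (g := fun _ => (-1 : ℤ))
        (fun j hj => (hval j (Finset.mem_filter.1 hj).1).resolve_left (Finset.mem_filter.1 hj).2)]
    simp [P]
    ring
  have h3 : P.card + (s.filter fun j => ¬ u j * v j = 1).card = s.card :=
    Finset.card_filter_add_card_filter_not _
  have hN : (s.filter fun j => ¬ u j * v j = 1).card = 0 := by omega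
  refine ⟨by omega, fun j hj => ?_⟩
  have h1 : u j * v j = 1 := by
    by_contra hne
    rw [Finset.card_eq_zero] at hN
    exact Finset.notMem_empty j (hN ▸ Finset.mem_filter.2 ⟨hj, hne⟩)
  have a := sq_of_mem hu (Finset.mem_inter.1 hj).1
  linear_combination (-(u j)) * h1 + v j * a

/-- All members meet in two fixed coordinates with fixed values, and have private third ones. -/
structure Sunflower (v : ι → κ → ℤ) (a b : κ) (σa σb : ℤ) (c : ι → κ) : Prop where
  ne : a ≠ b
  sq_a : σa * σa = 1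
  sq_b : σb * σb = 1
  val_a : ∀ i, v i a = σa
  val_b : ∀ i, v i b = σb
  supp_eq : ∀ i, supp (v i) = {a, b, c i}
  ne_a : ∀ i, c i ≠ a
  ne_b : ∀ i, c i ≠ b
  inj : Function.Injective c

theorem Sunflower.sq_c {v : ι → κ → ℤ} {a b : κ} {σa σb : ℤ} {c : ι → κ}
    (h : Sunflower v a b σa σb c) (hv : ∀ i, vip (v i) (v i) = 3) (i : ι) :
    v i (c i) * v i (c i) = 1 :=
  sq_of_mem (hv i) (by rw [h.supp_eq]; simp)

theorem Sunflower.vip_eq {v : ι → κ → ℤ} {a b : κ} {σa σb : ℤ} {c : ι → κ}
    (h : Sunflower v a b σa σb c) (i : ι) (u : κ → ℤ) :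
    vip (v i) u = σa * u a + σb * u b + v i (c i) * u (c i) := by
  rw [vip_eq_sum (v i) u (s := supp (v i)) Finset.inter_subset_left, h.supp_eq,
    Finset.sum_insert (by simp [h.ne, (h.ne_a i).symm]), Finset.sum_pair (h.ne_b i).symm,
    h.val_a, h.val_b]
  ring

theorem Sunflower.sum_weight {v : ι → κ → ℤ} {a b : κ} {σa σb : ℤ} {c : ι → κ}
    (h : Sunflower v a b σa σb c) (i : ι) (d : κ → ℝ) :
    ∑ j, (v i j : ℝ) * d j = σa * d a + σb * d b + v i (c i) * d (c i) := by
  rw [← Finset.sum_subset (Finset.subset_univ (supp (v i))) fun j _ hj => by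
      rw [show v i j = 0 by simpa [mem_supp] using hj, Int.cast_zero, zero_mul],
    h.supp_eq, Finset.sum_insert (by simp [h.ne, (h.ne_a i).symm]),
    Finset.sum_pair (h.ne_b i).symm, h.val_a, h.val_b]
  ring

/-- The triangle is excluded by a vector with all inner products `-2`, unless some coordinate
has weight a third of the common value. -/
theorem triangle {v₁ v₂ v₃ w : κ → ℤ} {x y c e : κ} (hd : x ≠ y ∧ x ≠ c ∧ x ≠ e ∧ y ≠ c ∧ y ≠ e ∧ c ≠ e)
    (h1 : supp v₁ = {x, y, c}) (h2 : supp v₂ = {x, y, e}) (h3 : supp v₃ = {x, c, e})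
    (hv1 : vip v₁ v₁ = 3) (hv2 : vip v₂ v₂ = 3) (hv3 : vip v₃ v₃ = 3)
    (h12 : vip v₁ v₂ = 2) (h13 : vip v₁ v₃ = 2) (h23 : vip v₂ v₃ = 2)
    (hw : vip w w = 3) (hw1 : vip v₁ w = -2) (hw2 : vip v₂ w = -2) (hw3 : vip v₃ w = -2)
    {d : κ → ℝ} {K : ℝ}
    (s1 : ∑ j, (v₁ j : ℝ) * d j = K) (s2 : ∑ j, (v₂ j : ℝ) * d j = K)
    (s3 : ∑ j, (v₃ j : ℝ) * d j = K) (sw : ∑ j, (w j : ℝ) * d j = K) :
    ∃ j, 3 * d j = K ∨ 3 * d j = -K := by
  obtain ⟨hxy, hxc, hxe, hyc, hye, hce⟩ := hd
  have p1 : ∀ u : κ → ℤ, vip v₁ u = v₁ x * u x + v₁ y * u y + v₁ c * u c := fun u => by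
    rw [vip_eq_sum v₁ u (s := supp v₁) Finset.inter_subset_left, h1,
      Finset.sum_insert (by simp [hxy, hxc]), Finset.sum_pair hyc]
    ring
  have p2 : ∀ u : κ → ℤ, vip v₂ u = v₂ x * u x + v₂ y * u y + v₂ e * u e := fun u => by
    rw [vip_eq_sum v₂ u (s := supp v₂) Finset.inter_subset_left, h2,
      Finset.sum_insert (by simp [hxy, hxe]), Finset.sum_pair hye]
    ring
  have p3 : ∀ u : κ → ℤ, vip v₃ u = v₃ x * u x + v₃ c * u c + v₃ e * u e := fun u => by
    rw [vip_eq_sum v₃ u (s := supp v₃) Finset.inter_subset_left, h3,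
      Finset.sum_insert (by simp [hxc, hxe]), Finset.sum_pair hce]
    ring
  have a12 := (share hv1 hv2 h12).2
  have a13 := (share hv1 hv3 h13).2
  have a23 := (share hv2 hv3 h23).2
  have ex2 : v₂ x = v₁ x := (a12 x (by simp [h1, h2])).symm
  have ey2 : v₂ y = v₁ y := (a12 y (by simp [h1, h2])).symm
  have ex3 : v₃ x = v₁ x := (a13 x (by simp [h1, h3])).symm
  have ec3 : v₃ c = v₁ c := (a13 c (by simp [h1, h3])).symm
  have ee3 : v₃ e = v₂ e := (a23 e (by simp [h2, h3])).symm
  rw [p1] at hw1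
  rw [p2, ex2, ey2] at hw2
  rw [p3, ex3, ec3, ee3] at hw3
  have qx := sq_of_mem hv1 (j := x) (by simp [h1])
  have qy := sq_of_mem hv1 (j := y) (by simp [h1])
  have qc := sq_of_mem hv1 (j := c) (by simp [h1])
  have qe := sq_of_mem hv2 (j := e) (by simp [h2])
  have hT : v₁ y * w y = -1 ∧ v₁ x * w x = 0 ∧ v₁ c * w c = -1 ∧ v₂ e * w e = -1 := by
    have hyy := unit_cases hw y
    have hxx := unit_cases hw x
    have hy1 : v₁ y = 1 ∨ v₁ y = -1 := sq_eq_one_iff.1 (by linear_combination qy)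
    have hx1 : v₁ x = 1 ∨ v₁ x = -1 := sq_eq_one_iff.1 (by linear_combination qx)
    have hT : v₁ y * w y = -1 ∨ v₁ y * w y = 0 ∨ v₁ y * w y = 1 := by
      rcases hy1 with h | h <;> rw [h] <;> omega
    have hX : v₁ x * w x = -1 ∨ v₁ x * w x = 0 ∨ v₁ x * w x = 1 := by
      rcases hx1 with h | h <;> rw [h] <;> omega
    rcases hT with h | h | h
    · omega
    · omega
    · exfalso
      omega
  obtain ⟨hTy, hTx, hTc, hTe⟩ := hT
  have wy : w y = -v₁ y := by linear_combination v₁ y * hTy - w y * qy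
  have wc : w c = -v₁ c := by linear_combination v₁ c * hTc - w c * qc
  have we : w e = -v₂ e := by linear_combination v₂ e * hTe - w e * qe
  have hsw : supp w = {y, c, e} := by
    symm
    refine Finset.eq_of_subset_of_card_le (fun j hj => ?_) (le_of_eq ?_)
    · simp only [Finset.mem_insert, Finset.mem_singleton] at hj
      rw [mem_supp]
      rcases hj with rfl | rfl | rfl
      · intro h; rw [h, mul_zero] at hTy; omega
      · intro h; rw [h, mul_zero] at hTc; omega
      · intro h; rw [h, mul_zero] at hTe; omega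
    · rw [card_supp hw, Finset.card_insert_of_notMem (by simp [hyc, hye]), Finset.card_pair hce]
  have sum3 : ∀ (u : κ → ℤ) (p q r : κ), supp u = {p, q, r} → p ≠ q → p ≠ r → q ≠ r →
      ∑ j, (u j : ℝ) * d j = u p * d p + u q * d q + u r * d r := by
    intro u p q r hs hpq hpr hqr
    rw [← Finset.sum_subset (Finset.subset_univ (supp u)) fun j _ hj => by
        rw [show u j = 0 by simpa [mem_supp] using hj, Int.cast_zero, zero_mul],
      hs, Finset.sum_insert (by simp [hpq, hpr]), Finset.sum_pair hqr]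
    ring
  rw [sum3 v₁ x y c h1 hxy hxc hyc] at s1
  rw [sum3 v₂ x y e h2 hxy hxe hye, ex2, ey2] at s2
  rw [sum3 v₃ x c e h3 hxc hxe hce, ex3, ec3, ee3] at s3
  rw [sum3 w y c e hsw hyc hye hce, wy, wc, we] at sw
  push_cast at sw
  refine ⟨y, ?_⟩
  rcases sq_eq_one_iff.1 (show v₁ y ^ 2 = 1 by linear_combination qy) with h | h
  · right
    rw [h] at s1 s2 sw
    push_cast at s1 s2 s3 sw
    linarith
  · left
    rw [h] at s1 s2 sw
    push_cast at s1 s2 s3 sw
    linarith

/-- A family of at least two vectors is a sunflower unless it contains a triangle. -/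
theorem sunflower {v : ι → κ → ℤ} (hv : ∀ i, vip (v i) (v i) = 3)
    (hvv : ∀ i j, i ≠ j → vip (v i) (v j) = 2) {i₀ i₁ : ι} (h01 : i₀ ≠ i₁)
    {w : κ → ℤ} (hw : vip w w = 3) (hvw : ∀ i, vip (v i) w = -2)
    {d : κ → ℝ} {K : ℝ} (hK : ∀ i, ∑ j, (v i j : ℝ) * d j = K)
    (hwK : ∑ j, (w j : ℝ) * d j = K) (hno : ∀ j, 3 * d j ≠ K ∧ 3 * d j ≠ -K) :
    ∃ a b σa σb c, Sunflower v a b σa σb c := by
  obtain ⟨hc2, heq⟩ := share (hv i₀) (hv i₁) (hvv _ _ h01)
  set C := supp (v i₀) ∩ supp (v i₁) with hC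
  have hcore : ∀ i, C ⊆ supp (v i) := by
    intro i
    by_contra hn
    rcases eq_or_ne i i₀ with rfl | h0
    · exact hn Finset.inter_subset_left
    rcases eq_or_ne i i₁ with rfl | h1
    · exact hn Finset.inter_subset_right
    obtain ⟨y, hy, hyi⟩ := Finset.not_subset.1 hn
    obtain ⟨x, hx⟩ : ∃ x, C.erase y = {x} :=
      Finset.card_eq_one.1 (by rw [Finset.card_erase_of_mem hy, hc2])
    have hxC : x ∈ C ∧ x ≠ y := by
      have : x ∈ C.erase y := by rw [hx]; simp
      exact ⟨(Finset.mem_erase.1 this).2, (Finset.mem_erase.1 this).1⟩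
    obtain ⟨c, hc⟩ : ∃ c, supp (v i₀) \ C = {c} := Finset.card_eq_one.1 (by
      rw [Finset.card_sdiff_of_subset Finset.inter_subset_left, card_supp (hv i₀), hc2])
    obtain ⟨e, he⟩ : ∃ e, supp (v i₁) \ C = {e} := Finset.card_eq_one.1 (by
      rw [Finset.card_sdiff_of_subset Finset.inter_subset_right, card_supp (hv i₁), hc2])
    have hcc : c ∈ supp (v i₀) ∧ c ∉ C := Finset.mem_sdiff.1 (hc ▸ Finset.mem_singleton_self c)
    have hee : e ∈ supp (v i₁) ∧ e ∉ C := Finset.mem_sdiff.1 (he ▸ Finset.mem_singleton_self e)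
    have hce : c ≠ e := fun h => hcc.2 (Finset.mem_inter.2 ⟨hcc.1, h ▸ hee.1⟩)
    have hdist : x ≠ y ∧ x ≠ c ∧ x ≠ e ∧ y ≠ c ∧ y ≠ e ∧ c ≠ e :=
      ⟨hxC.2, fun h => hcc.2 (h ▸ hxC.1), fun h => hee.2 (h ▸ hxC.1), fun h => hcc.2 (h ▸ hy),
        fun h => hee.2 (h ▸ hy), hce⟩
    have hCeq : C = {x, y} := by
      rw [← Finset.insert_erase hy, hx, Finset.pair_comm]
    have s0 : supp (v i₀) = {x, y, c} := by
      rw [← Finset.union_sdiff_of_subset (Finset.inter_subset_left : C ⊆ supp (v i₀)), hc,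
        show supp (v i₀) ∩ supp (v i₁) = {x, y} from hCeq]
      ext j; simp
    have s1 : supp (v i₁) = {x, y, e} := by
      rw [← Finset.union_sdiff_of_subset (Finset.inter_subset_right : C ⊆ supp (v i₁)), he,
        show supp (v i₀) ∩ supp (v i₁) = {x, y} from hCeq]
      ext j; simp
    have t0 := (share (hv i₀) (hv i) (hvv _ _ (Ne.symm h0))).1
    have t1 := (share (hv i₁) (hv i) (hvv _ _ (Ne.symm h1))).1
    have hsub0 : supp (v i₀) ∩ supp (v i) = {x, c} := by
      refine Finset.eq_of_subset_of_card_le (fun j hj => ?_) (by rw [t0, Finset.card_pair hdist.2.1])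
      obtain ⟨hj1, hj2⟩ := Finset.mem_inter.1 hj
      rw [s0] at hj1
      simp only [Finset.mem_insert, Finset.mem_singleton] at hj1 ⊢
      rcases hj1 with rfl | rfl | rfl
      · exact Or.inl rfl
      · exact absurd hj2 hyi
      · exact Or.inr rfl
    have hsub1 : supp (v i₁) ∩ supp (v i) = {x, e} := by
      refine Finset.eq_of_subset_of_card_le (fun j hj => ?_) (by rw [t1, Finset.card_pair hdist.2.2.1])
      obtain ⟨hj1, hj2⟩ := Finset.mem_inter.1 hj
      rw [s1] at hj1
      simp only [Finset.mem_insert, Finset.mem_singleton] at hj1 ⊢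
      rcases hj1 with rfl | rfl | rfl
      · exact Or.inl rfl
      · exact absurd hj2 hyi
      · exact Or.inr rfl
    have hs : supp (v i) = {x, c, e} := by
      symm
      refine Finset.eq_of_subset_of_card_le (fun j hj => ?_) (le_of_eq ?_)
      · simp only [Finset.mem_insert, Finset.mem_singleton] at hj
        have hx' : x ∈ supp (v i₀) ∩ supp (v i) := by rw [hsub0]; simp
        have hc' : c ∈ supp (v i₀) ∩ supp (v i) := by rw [hsub0]; simp
        have he' : e ∈ supp (v i₁) ∩ supp (v i) := by rw [hsub1]; simp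
        rcases hj with rfl | rfl | rfl
        · exact (Finset.mem_inter.1 hx').2
        · exact (Finset.mem_inter.1 hc').2
        · exact (Finset.mem_inter.1 he').2
      · rw [card_supp (hv i), Finset.card_insert_of_notMem (by simp [hdist.2.1, hdist.2.2.1]),
          Finset.card_pair hce]
    obtain ⟨j, hj⟩ := triangle hdist s0 s1 hs (hv _) (hv _) (hv _) (hvv _ _ h01) (hvv _ _ (Ne.symm h0))
      (hvv _ _ (Ne.symm h1)) hw (hvw _) (hvw _) (hvw _) (hK _) (hK _) (hK _) hwK
    exact hj.elim (hno j).1 (hno j).2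
  obtain ⟨a, b, hab, hCab⟩ := Finset.card_eq_two.1 hc2
  have hmem : ∀ i, a ∈ supp (v i) ∧ b ∈ supp (v i) := fun i =>
    ⟨hcore i (by rw [hCab]; simp), hcore i (by rw [hCab]; simp)⟩
  have hthird : ∀ i, ∃ c, c ≠ a ∧ c ≠ b ∧ supp (v i) = {a, b, c} := by
    intro i
    obtain ⟨c, hc⟩ : ∃ c, supp (v i) \ C = {c} := Finset.card_eq_one.1 (by
      rw [Finset.card_sdiff_of_subset (hcore i), card_supp (hv i), hc2])
    have hcm := Finset.mem_sdiff.1 (hc ▸ Finset.mem_singleton_self c)
    refine ⟨c, fun h => hcm.2 (by rw [h, hCab]; simp), fun h => hcm.2 (by rw [h, hCab]; simp), ?_⟩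
    rw [← Finset.union_sdiff_of_subset (hcore i), hc, hCab]
    ext j; simp
  choose c hca hcb hsupp using hthird
  refine ⟨a, b, v i₀ a, v i₀ b, c, hab, sq_of_mem (hv _) (hmem _).1, sq_of_mem (hv _) (hmem _).2,
    fun i => ?_, fun i => ?_, hsupp, hca, hcb, fun i k h => ?_⟩
  · rcases eq_or_ne i i₀ with rfl | h
    · rfl
    · exact (share (hv _) (hv _) (hvv _ _ h)).2 a (Finset.mem_inter.2 ⟨(hmem _).1, (hmem _).1⟩)
  · rcases eq_or_ne i i₀ with rfl | h
    · rfl
    · exact (share (hv _) (hv _) (hvv _ _ h)).2 b (Finset.mem_inter.2 ⟨(hmem _).2, (hmem _).2⟩)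
  · by_contra hne
    have h2 := (share (hv i) (hv k) (hvv _ _ hne)).1
    rw [hsupp i, hsupp k, h, Finset.inter_self, Finset.card_insert_of_notMem (by
      simp [hab, (hca k).symm]), Finset.card_pair (hcb k).symm] at h2
    omega

/-- A vector with all inner products `-2` against a sunflower of three or more members. -/
theorem Sunflower.opposite {v : ι → κ → ℤ} {a b : κ} {σa σb : ℤ} {c : ι → κ}
    (h : Sunflower v a b σa σb c) (hv : ∀ i, vip (v i) (v i) = 3) {w : κ → ℤ}
    (hw : vip w w = 3) (hvw : ∀ i, vip (v i) w = -2) {i₀ i₁ i₂ : ι}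
    (h01 : i₀ ≠ i₁) (h02 : i₀ ≠ i₂) (h12 : i₁ ≠ i₂) :
    w a = -σa ∧ w b = -σb ∧ ∀ i, w (c i) = 0 := by
  have ht : ∀ i, v i (c i) * w (c i) = -2 - (σa * w a + σb * w b) := fun i => by
    have := hvw i
    rw [h.vip_eq] at this
    linear_combination this
  by_cases h0 : -2 - (σa * w a + σb * w b) = 0
  · have ha := unit_cases hw a
    have hb := unit_cases hw b
    have ha1 : σa = 1 ∨ σa = -1 := sq_eq_one_iff.1 (by linear_combination h.sq_a)
    have hb1 : σb = 1 ∨ σb = -1 := sq_eq_one_iff.1 (by linear_combination h.sq_b)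
    have hA : σa * w a = -1 ∨ σa * w a = 0 ∨ σa * w a = 1 := by
      rcases ha1 with e | e <;> rw [e] <;> omega
    have hB : σb * w b = -1 ∨ σb * w b = 0 ∨ σb * w b = 1 := by
      rcases hb1 with e | e <;> rw [e] <;> omega
    have hA' : σa * w a = -1 := by omega
    have hB' : σb * w b = -1 := by omega
    refine ⟨by linear_combination σa * hA' - w a * h.sq_a, by linear_combination σb * hB' - w b * h.sq_b,
      fun i => ?_⟩
    have := ht i
    rw [h0] at this
    linear_combination v i (c i) * this - w (c i) * h.sq_c hv i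
  · exfalso
    have hmem : ∀ i, c i ∈ supp w := fun i => mem_supp.2 fun hz => h0 (by rw [← ht i, hz, mul_zero])
    have hs : supp w = {c i₀, c i₁, c i₂} := by
      symm
      refine Finset.eq_of_subset_of_card_le (fun j hj => ?_) (le_of_eq ?_)
      · simp only [Finset.mem_insert, Finset.mem_singleton] at hj
        rcases hj with rfl | rfl | rfl <;> exact hmem _
      · rw [card_supp hw, Finset.card_insert_of_notMem (by
          simp [h.inj.ne h01, h.inj.ne h02]), Finset.card_pair (h.inj.ne h12)]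
    have hz : ∀ j, (∀ i, c i ≠ j) → w j = 0 := by
      intro j hj
      by_contra hne
      have := mem_supp.2 hne
      rw [hs] at this
      simp only [Finset.mem_insert, Finset.mem_singleton] at this
      rcases this with e | e | e <;> exact hj _ e.symm
    have := ht i₀
    rw [hz a fun i => h.ne_a i, hz b fun i => h.ne_b i] at this
    have h1 := unit_cases hw (c i₀)
    have h2 : v i₀ (c i₀) = 1 ∨ v i₀ (c i₀) = -1 :=
      sq_eq_one_iff.1 (by linear_combination h.sq_c hv i₀)
    rcases h2 with e | e <;> rw [e] at this <;> omega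

end CfsgLib.SuzukiDegrees
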