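import Cfsg.Agent.SuzukiLocal.GoodTorus
import Cfsg.Agent.SuzukiDegrees.Vectors
import Cfsg.Agent.Characters.Generalized
import Cfsg.Agent.Characters.Induction
import Cfsg.Agent.Characters.Linear
import Mathlib.GroupTheory.FiniteAbelian.Duality
import Mathlib.Analysis.Complex.Polynomial.Basic
import Mathlib.RingTheory.RootsOfUnity.AlgebraicallyClosed

/-!
# The characters induced from `1 - f` for a linear character `f` of a good torus

Their inner products are `e` or `e + 1`, so after removing the principal and a Steinberg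
constituent their coefficient vectors are integer vectors of small norm.
-/

set_option autoImplicit false
set_option linter.unusedSectionVars false
set_option linter.style.haveILetI false

namespace CfsgLib.SuzukiDegrees

open Cfsg CfsgLib.Characters CfsgLib.SuzukiLocal
open scoped ComplexConjugate

universe u

variable {G : Type u} [Group G] [Fintype G]

noncomputable local instance fintypeSub (H : Subgroup G) : Fintype H := Fintype.ofFinite H

/-- `1 - f`, induced to the whole group. -/
noncomputable def beta (A : Subgroup G) (f : A →* ℂˣ) : G → ℂ :=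
  indFun A fun a => 1 - (f a : ℂ)

theorem beta_isClass (A : Subgroup G) (f : A →* ℂˣ) : IsClassFunction G (beta A f) :=
  isClassFunction_indFun _ _

theorem beta_one (A : Subgroup G) (f : A →* ℂˣ) : beta A f 1 = 0 := by
  rw [beta, indFun_one, map_one, Units.val_one, sub_self, mul_zero]

theorem beta_isGen (A : Subgroup G) (f : A →* ℂˣ) : IsGeneralizedCharacter G (beta A f) := by
  rw [beta, show (fun a : A => 1 - (f a : ℂ)) = (fun _ => (1 : ℂ)) - fun a => (f a : ℂ) from rfl,
    indFun_sub]
  exact isGen_sub (isGen_of_isCharacter (isCharacter_indFun A isCharacter_one))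
    (isGen_of_isCharacter (isCharacter_indFun A (isCharacter_of_isIrr (isIrr_linChar f))))

/-- The coefficient of an irreducible character. -/
noncomputable def coef (A : Subgroup G) (f : A →* ℂˣ) : IrrCharacter G → ℤ :=
  (exists_int_coeff (beta_isGen A f)).choose

theorem coef_spec (A : Subgroup G) (f : A →* ℂˣ) :
    beta A f = ∑ χ, (coef A f χ : ℂ) • (χ : G → ℂ) ∧
      ∀ χ : IrrCharacter G, classInner (beta A f) (χ : G → ℂ) = coef A f χ :=
  (exists_int_coeff (beta_isGen A f)).choose_spec

theorem sum_coef_mul (A B : Subgroup G) (f : A →* ℂˣ) (g : B →* ℂˣ) :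
    classInner (beta A f) (beta B g) = ∑ χ, ((coef A f χ * coef B g χ : ℤ) : ℂ) := by
  rw [classInner_eq_sum (beta_isClass A f)]
  refine Finset.sum_congr rfl fun χ _ => ?_
  rw [(coef_spec A f).2, (coef_spec B g).2, map_intCast, Int.cast_mul]

theorem sum_coef_degree (A : Subgroup G) (f : A →* ℂˣ) :
    ∑ χ : IrrCharacter G, (coef A f χ : ℂ) * (χ : G → ℂ) 1 = 0 := by
  have h := congrFun (coef_spec A f).1 1
  rw [beta_one, Finset.sum_apply] at h
  simpa using h.symm

theorem sum_hom {A : Subgroup G} {f : A →* ℂˣ} (hf : f ≠ 1) : ∑ a : A, (f a : ℂ) = 0 := by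
  have h := classInner_isIrr_ne (isIrr_linChar f) (isIrr_one (G := A)) fun e =>
    hf (MonoidHom.ext fun a => Units.ext (congrFun e a))
  simpa [classInner, natCard_ne_zero] using h

/-- The inner product with a function constant off the identity. -/
theorem classInner_beta_const {A : Subgroup G} {f : A →* ℂˣ} (hf : f ≠ 1) {χ : G → ℂ}
    (hχ : IsClassFunction G χ) {c : ℤ} (hc : ∀ a ∈ A, a ≠ 1 → χ a = c) :
    classInner (beta A f) χ = c := by
  classical
  rw [beta, classInner_indFun A _ hχ, classInner]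
  have h : ∀ a : A, (1 - (f a : ℂ)) * conj (χ a) = (1 - (f a : ℂ)) * c := by
    intro a
    by_cases h1 : (a : G) = 1
    · rw [show a = 1 from Subtype.ext h1, map_one, Units.val_one, sub_self, zero_mul, zero_mul]
    · rw [hc _ a.2 h1, map_intCast]
  rw [Finset.sum_congr rfl fun a _ => h a, ← Finset.sum_mul, Finset.sum_sub_distrib, sum_hom hf,
    sub_zero, Finset.sum_const, Finset.card_univ, ← Nat.card_eq_fintype_card, nsmul_eq_mul, mul_one,
    ← mul_assoc, inv_mul_cancel₀ natCard_ne_zero, one_mul]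

theorem coef_const {A : Subgroup G} {f : A →* ℂˣ} (hf : f ≠ 1) (χ : IrrCharacter G) {c : ℤ}
    (hc : ∀ a ∈ A, a ≠ 1 → (χ : G → ℂ) a = c) : coef A f χ = c := by
  have h := (coef_spec A f).2 χ
  rw [classInner_beta_const hf (isClassFunction_of_isIrr χ.2) hc] at h
  exact_mod_cast h.symm

/-- Tori without conjugate elements give orthogonal functions. -/
theorem classInner_beta_cross {A B : Subgroup G} (f : A →* ℂˣ) (g : B →* ℂˣ)
    (h : ∀ a ∈ A, a ≠ 1 → ∀ x : G, x⁻¹ * a * x ∉ B) : classInner (beta A f) (beta B g) = 0 := by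
  rw [beta, classInner_indFun A _ (beta_isClass B g), classInner]
  refine mul_eq_zero_of_right _ (Finset.sum_eq_zero fun a _ => ?_)
  by_cases h1 : (a : G) = 1
  · rw [show a = 1 from Subtype.ext h1, map_one, Units.val_one, sub_self, zero_mul]
  · rw [beta, indFun_eq_zero_of_forall B _ _ (h _ a.2 h1), map_zero, mul_zero]

variable {A : Subgroup G}

/-- Conjugation by an element of the normalizer. -/
def conjHom (x : Subgroup.normalizer (A : Set G)) : A →* A where
  toFun a := ⟨(x : G)⁻¹ * a * x, (Subgroup.mem_normalizer_iff''.1 x.2 _).1 a.2⟩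
  map_one' := Subtype.ext (by simp)
  map_mul' a b := Subtype.ext (by simp [mul_assoc])

theorem comp_conjHom_comp (g : A →* ℂˣ) (x y : Subgroup.normalizer (A : Set G)) :
    (g.comp (conjHom x)).comp (conjHom y) = g.comp (conjHom (y * x)) := by
  ext a
  simp [conjHom, mul_assoc]

theorem comp_conjHom_one (g : A →* ℂˣ) : g.comp (conjHom 1) = g := by
  ext a
  simp [conjHom]

theorem comp_conjHom_ne_one {g : A →* ℂˣ} (hg : g ≠ 1) (x : Subgroup.normalizer (A : Set G)) :
    g.comp (conjHom x) ≠ 1 := fun h => hg (by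
  rw [← comp_conjHom_one g, ← inv_mul_cancel x, ← comp_conjHom_comp, h, MonoidHom.one_comp])

theorem classInner_one_sub {f h : A →* ℂˣ} (hf : f ≠ 1) (hh : h ≠ 1) [Decidable (f = h)] :
    classInner (fun a : A => 1 - (f a : ℂ)) (fun a : A => 1 - (h a : ℂ)) =
      1 + if f = h then 1 else 0 := by
  have ne : ∀ f g : A →* ℂˣ, f ≠ g → (fun a => (f a : ℂ)) ≠ fun a => (g a : ℂ) := fun f g hne e =>
    hne (MonoidHom.ext fun a => Units.ext (congrFun e a))
  have h1 : (fun _ : A => (1 : ℂ)) = fun a => (((1 : A →* ℂˣ) a : ℂˣ) : ℂ) := by simp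
  rw [show (fun a : A => 1 - (f a : ℂ)) = (fun _ => (1 : ℂ)) - fun a => (f a : ℂ) from rfl,
    show (fun a : A => 1 - (h a : ℂ)) = (fun _ => (1 : ℂ)) - fun a => (h a : ℂ) from rfl,
    classInner_sub_left, classInner_sub_right, classInner_sub_right, classInner_isIrr_self isIrr_one,
    h1, classInner_isIrr_ne (isIrr_linChar 1) (isIrr_linChar h) (ne _ _ (Ne.symm hh)),
    classInner_isIrr_ne (isIrr_linChar f) (isIrr_linChar 1) (ne _ _ hf)]
  split_ifs with e
  · rw [e, classInner_isIrr_self (isIrr_linChar h)]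
    ring
  · rw [classInner_isIrr_ne (isIrr_linChar f) (isIrr_linChar h) (ne _ _ e)]
    ring

variable {e : ℕ} (hA : GoodTorus A e)
include hA

theorem stab_mem {g : A →* ℂˣ} (hg : g ≠ 1) {x : Subgroup.normalizer (A : Set G)}
    (hx : g.comp (conjHom x) = g) : (x : G) ∈ A := by
  by_contra hxA
  let φ : A →* A :=
    { toFun := fun a => conjHom x a * a⁻¹
      map_one' := by rw [map_one, inv_one, mul_one]
      map_mul' := fun a b => by
        have hc : ∀ u v : A, u * v = v * u := fun u v => Subtype.ext (hA.comm u.2 v.2)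
        rw [map_mul, mul_inv_rev, hc b⁻¹ a⁻¹, mul_assoc, mul_assoc]
        congr 1
        rw [← mul_assoc, hc (conjHom x b) a⁻¹, mul_assoc] }
  have hinj : Function.Injective φ := by
    rw [injective_iff_map_eq_one]
    intro a ha
    by_contra h1
    refine hxA (hA.mem_of_commute a.2 (fun h => h1 (Subtype.ext h)) ?_)
    have h2 := congrArg Subtype.val (mul_inv_eq_one.1 (ha : conjHom x a * a⁻¹ = 1))
    simp only [conjHom, MonoidHom.coe_mk, OneHom.coe_mk] at h2
    calc (x : G) * a = x * ((x : G)⁻¹ * a * x) := by rw [h2]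
      _ = a * x := by group
  refine hg (MonoidHom.ext fun a => ?_)
  obtain ⟨b, rfl⟩ := Finite.surjective_of_injective hinj a
  show g (conjHom x b * b⁻¹) = 1
  rw [map_mul, show g (conjHom x b) = g b from congrArg (fun k : A →* ℂˣ => k b) hx, map_inv,
    mul_inv_cancel]

theorem comp_of_mem (g : A →* ℂˣ) {x : Subgroup.normalizer (A : Set G)} (hx : (x : G) ∈ A) :
    g.comp (conjHom x) = g := by
  ext a
  simp only [MonoidHom.comp_apply]
  congr 2
  refine Subtype.ext ?_
  show (x : G)⁻¹ * a * x = a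
  rw [mul_assoc, hA.comm a.2 hx, inv_mul_cancel_left]

theorem card_fiber {g : A →* ℂˣ} (hg : g ≠ 1) (x₀ : Subgroup.normalizer (A : Set G)) :
    Nat.card {x : Subgroup.normalizer (A : Set G) // g.comp (conjHom x) = g.comp (conjHom x₀)} =
      Nat.card A := by
  refine Nat.card_congr
    { toFun := fun x => ⟨((x₀⁻¹ * x.1 : Subgroup.normalizer (A : Set G)) : G), stab_mem hA hg (by
        rw [← comp_conjHom_comp, x.2, comp_conjHom_comp, inv_mul_cancel, comp_conjHom_one])⟩
      invFun := fun a => ⟨x₀ * ⟨a, Subgroup.le_normalizer a.2⟩, by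
        rw [← comp_conjHom_comp, comp_of_mem hA g (x := ⟨a, Subgroup.le_normalizer a.2⟩) a.2]⟩
      left_inv := fun x => Subtype.ext (Subtype.ext (by simp))
      right_inv := fun a => Subtype.ext (by simp) }

theorem beta_apply_mem (g : A →* ℂˣ) (a : A) :
    beta A g a = (Nat.card A : ℂ)⁻¹ *
      ∑ x : Subgroup.normalizer (A : Set G), (1 - (g (conjHom x a) : ℂ)) := by
  classical
  rw [beta, indFun]
  congr 1
  refine Eq.trans (Finset.sum_subset (Finset.subset_univ
    (Finset.univ.filter fun x : G => x ∈ Subgroup.normalizer (A : Set G))) fun x _ hx => ?_).symm ?_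
  · by_cases h1 : (a : G) = 1
    · rw [h1, mul_one, inv_mul_cancel, extendByZero_of_mem A _ A.one_mem,
        show (⟨1, A.one_mem⟩ : A) = 1 from rfl, map_one, Units.val_one, sub_self]
    · refine extendByZero_of_not_mem A _ fun h => hx (Finset.mem_filter.2 ⟨Finset.mem_univ _, ?_⟩)
      exact inv_mem_iff.1 (hA.mem_normalizer_of_conj_mem a.2 h1 (g := x⁻¹) (by rwa [inv_inv]))
  · rw [Finset.sum_subtype _ (p := fun x : G => x ∈ Subgroup.normalizer (A : Set G)) (fun x => by simp)]
    refine Finset.sum_congr rfl fun x _ => ?_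
    rw [extendByZero_of_mem A _ ((Subgroup.mem_normalizer_iff''.1 x.2 _).1 a.2)]
    rfl

theorem classInner_beta {f g : A →* ℂˣ} (hf : f ≠ 1) (hg : g ≠ 1) :
    classInner (beta A f) (beta A g) = e + (Nat.card A : ℂ)⁻¹ *
      Nat.card {x : Subgroup.normalizer (A : Set G) // g.comp (conjHom x) = f} := by
  classical
  have hres : (fun a : A => beta A g a) = (Nat.card A : ℂ)⁻¹ •
      ∑ x : Subgroup.normalizer (A : Set G), fun a : A => 1 - ((g.comp (conjHom x)) a : ℂ) :=
    funext fun a => by
      rw [beta_apply_mem hA, Pi.smul_apply, Finset.sum_apply, smul_eq_mul]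
      rfl
  conv_lhs => rw [beta]
  rw [classInner_indFun A _ (beta_isClass A g), hres, classInner_smul_right, map_inv₀,
    Complex.conj_natCast, classInner_sum_right,
    Finset.sum_congr rfl fun x _ => classInner_one_sub hf (comp_conjHom_ne_one hg x),
    Finset.sum_add_distrib, Finset.sum_const, Finset.card_univ, ← Nat.card_eq_fintype_card,
    hA.card_normalizer, nsmul_eq_mul, mul_one, mul_add, Nat.cast_mul]
  congr 1
  · rw [mul_comm (e : ℂ), ← mul_assoc, inv_mul_cancel₀ natCard_ne_zero, one_mul]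
  · rw [Finset.sum_boole]
    congr 2
    rw [Nat.card_eq_fintype_card, Fintype.card_subtype]
    simp only [eq_comm]

theorem classInner_beta_self {f : A →* ℂˣ} (hf : f ≠ 1) :
    classInner (beta A f) (beta A f) = e + 1 := by
  rw [classInner_beta hA hf hf]
  have h := card_fiber hA hf 1
  rw [comp_conjHom_one] at h
  rw [h, inv_mul_cancel₀ natCard_ne_zero]

theorem classInner_beta_ne {f g : A →* ℂˣ} (hf : f ≠ 1) (hg : g ≠ 1)
    (h : ∀ x, g.comp (conjHom x) ≠ f) : classInner (beta A f) (beta A g) = e := by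
  rw [classInner_beta hA hf hg]
  have : IsEmpty {x : Subgroup.normalizer (A : Set G) // g.comp (conjHom x) = f} :=
    ⟨fun x => h x.1 x.2⟩
  simp

/-- Representatives of the classes of nontrivial linear characters. -/
theorem exists_reps : ∃ (ι : Type u) (_ : Fintype ι) (f : ι → A →* ℂˣ), (∀ i, f i ≠ 1) ∧
    (∀ i j, i ≠ j → ∀ x, (f j).comp (conjHom x) ≠ f i) ∧ e * Fintype.card ι + 1 = Nat.card A := by
  classical
  have := hA.cyclic
  letI : CommGroup A := IsCyclic.commGroup
  have hcard : Nat.card (A →* ℂˣ) = Nat.card A :=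
    CommGroup.card_monoidHom_of_hasEnoughRootsOfUnity A ℂ
  haveI : Finite (A →* ℂˣ) := Nat.finite_of_card_ne_zero (hcard ▸ Nat.card_pos.ne')
  let s : Setoid {f : A →* ℂˣ // f ≠ 1} :=
    { r := fun f g => ∃ x, f.1.comp (conjHom x) = g.1
      iseqv :=
        { refl := fun f => ⟨1, comp_conjHom_one _⟩
          symm := fun {f g} ⟨x, hx⟩ => ⟨x⁻¹, by
            rw [← hx, comp_conjHom_comp, inv_mul_cancel, comp_conjHom_one]⟩
          trans := fun {f g h} ⟨x, hx⟩ ⟨y, hy⟩ => ⟨y * x, by rw [← comp_conjHom_comp, hx, hy]⟩ } }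
  haveI : Fintype (Quotient s) := Fintype.ofFinite _
  haveI : Fintype {f : A →* ℂˣ // f ≠ 1} := Fintype.ofFinite _
  refine ⟨Quotient s, inferInstance, fun c => (Quotient.out c).1, fun c => (Quotient.out c).2,
    fun i j hij x hx => hij ?_, ?_⟩
  · rw [← Quotient.out_eq i, ← Quotient.out_eq j]
    exact (Quotient.sound (s := s) ⟨x, hx⟩).symm
  · have hfib : ∀ c : Quotient s, Nat.card {f : {f : A →* ℂˣ // f ≠ 1} // ⟦f⟧ = c} = e := by
      intro c
      set g := Quotient.out c
      have hsig : Nat.card (Subgroup.normalizer (A : Set G)) =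
          Nat.card {f : {f : A →* ℂˣ // f ≠ 1} // ⟦f⟧ = c} * Nat.card A := by
        let k : Subgroup.normalizer (A : Set G) → {f : {f : A →* ℂˣ // f ≠ 1} // ⟦f⟧ = c} := fun x =>
          ⟨⟨g.1.comp (conjHom x), comp_conjHom_ne_one g.2 x⟩, by
            conv_rhs => rw [← Quotient.out_eq c]
            exact (Quotient.sound (s := s) ⟨x, rfl⟩).symm⟩
        rw [← Nat.card_congr (Equiv.sigmaFiberEquiv k), Nat.card_sigma,
          Finset.sum_congr rfl fun f _ => ?_, Finset.sum_const, Finset.card_univ,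
          ← Nat.card_eq_fintype_card, smul_eq_mul]
        obtain ⟨⟨f, hf⟩, hfc⟩ := f
        obtain ⟨x₀, hx₀⟩ := Quotient.exact (s := s) ((Quotient.out_eq c).trans hfc.symm)
        rw [← card_fiber hA g.2 x₀]
        refine Nat.card_congr (Equiv.subtypeEquivRight fun x => ?_)
        simp only [k, Subtype.mk.injEq]
        exact ⟨fun h => h.trans hx₀.symm, fun h => h.trans hx₀⟩
      rw [hA.card_normalizer] at hsig
      exact (Nat.eq_of_mul_eq_mul_right Nat.card_pos hsig).symm
    have h := Nat.card_congr (Equiv.sigmaFiberEquiv fun f : {f : A →* ℂˣ // f ≠ 1} => (⟦f⟧ : Quotient s))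
    rw [Nat.card_sigma, Finset.sum_congr rfl (fun c _ => hfib c), Finset.sum_const, Finset.card_univ,
      smul_eq_mul] at h
    haveI : Fintype (A →* ℂˣ) := Fintype.ofFinite _
    rw [Nat.card_eq_fintype_card (α := {f : A →* ℂˣ // f ≠ 1}), Fintype.card_subtype_compl,
      Fintype.card_subtype_eq] at h
    have := Fintype.card_pos (α := A →* ℂˣ)
    rw [← hcard, Nat.card_eq_fintype_card, mul_comm, h]
    omega

omit hA

/-- The coefficients outside `T` and `St`. -/
noncomputable def vec (A : Subgroup G) (T St : IrrCharacter G) (f : A →* ℂˣ) :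
    IrrCharacter G → ℤ :=
  open scoped Classical in fun χ => if χ = T ∨ χ = St then 0 else coef A f χ

theorem coef_split (A : Subgroup G) {T St : IrrCharacter G} (hTS : T ≠ St) (f : A →* ℂˣ)
    {R : Type*} [CommRing R] (k : IrrCharacter G → R) :
    ∑ χ, (coef A f χ : R) * k χ =
      (coef A f T : R) * k T + (coef A f St : R) * k St + ∑ χ, (vec A T St f χ : R) * k χ := by
  classical
  rw [← Finset.sum_subset (Finset.subset_univ (Finset.univ \ {T, St}))
      (f := fun χ => (vec A T St f χ : R) * k χ) fun χ _ hχ => ?_,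
    ← Finset.sum_sdiff (Finset.subset_univ ({T, St} : Finset (IrrCharacter G))),
    Finset.sum_pair hTS, add_comm, Finset.sum_congr rfl fun χ hχ => ?_]
  · simp only [Finset.mem_sdiff, Finset.mem_univ, true_and, Finset.mem_insert,
      Finset.mem_singleton] at hχ
    rw [vec, if_neg hχ]
  · simp only [Finset.mem_sdiff, Finset.mem_univ, true_and, Finset.mem_insert,
      Finset.mem_singleton, not_not] at hχ
    rw [vec, if_pos hχ, Int.cast_zero, zero_mul]

theorem vip_vec {B : Subgroup G} {T St : IrrCharacter G} (hTS : T ≠ St)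
    (hT : (T : G → ℂ) = fun _ => 1) {f : A →* ℂˣ} (hf : f ≠ 1) {g : B →* ℂˣ} (hg : g ≠ 1) {c c' : ℤ}
    (hc : ∀ a ∈ A, a ≠ 1 → (St : G → ℂ) a = c) (hc' : ∀ a ∈ B, a ≠ 1 → (St : G → ℂ) a = c') {k : ℤ}
    (hk : classInner (beta A f) (beta B g) = k) :
    vip (vec A T St f) (vec B T St g) = k - 1 - c * c' := by
  have h := sum_coef_mul A B f g
  rw [hk, ← Int.cast_sum, Int.cast_inj] at h
  have h2 := coef_split A hTS f (R := ℤ) (coef B g)
  simp only [Int.cast_id] at h2
  rw [← h, coef_const hf T (c := 1) (fun a _ _ => by rw [hT, Int.cast_one]),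
    coef_const hg T (c := 1) (fun a _ _ => by rw [hT, Int.cast_one]), coef_const hf St hc,
    coef_const hg St hc'] at h2
  have h3 : ∑ χ, vec A T St f χ * coef B g χ = vip (vec A T St f) (vec B T St g) := by
    refine Finset.sum_congr rfl fun χ _ => ?_
    by_cases hχ : χ = T ∨ χ = St
    · simp [vec, if_pos hχ]
    · simp [vec, if_neg hχ]
  rw [h3] at h2
  linarith

theorem sum_vec_degree {T St : IrrCharacter G} (hTS : T ≠ St) (hT : (T : G → ℂ) = fun _ => 1)
    {f : A →* ℂˣ} (hf : f ≠ 1) {c : ℤ} (hc : ∀ a ∈ A, a ≠ 1 → (St : G → ℂ) a = c) :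
    ∑ χ : IrrCharacter G, (vec A T St f χ : ℂ) * (χ : G → ℂ) 1 = -1 - c * (St : G → ℂ) 1 := by
  have h := coef_split A hTS f (R := ℂ) (fun χ : IrrCharacter G => (χ : G → ℂ) 1)
  rw [sum_coef_degree, coef_const hf T (c := 1) (fun a _ _ => by rw [hT, Int.cast_one]),
    coef_const hf St hc, show (T : G → ℂ) 1 = 1 from congrFun hT 1] at h
  push_cast at h
  linear_combination -h

end CfsgLib.SuzukiDegrees
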